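import Mathlib
import Cfsg.Agent.BF.Base
import Cfsg.Agent.Inv.ZMod2
import Cfsg.Agent.PLocal.GNMain

/-! The model `(ℤ/2ⁿ × ℤ/2ⁿ) ⋊ (2 × 2)` of a Sylow 2-subgroup of `G₂(q)`, `q` odd. -/

set_option autoImplicit false
set_option linter.unusedSectionVars false

namespace Cfsg.Agent.GHO

open Subgroup Cfsg.Agent.Inv Cfsg.Agent.BF

/-- the coordinate ring -/
abbrev R (k : ℕ) : Type := ZMod (2 ^ (k + 2))

/-- `a ^ x * b ^ y * u ^ e * v ^ s`, where `u` inverts and `v` swaps `a` and `b` -/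
@[ext] structure GK (k : ℕ) : Type where
  x : R k
  y : R k
  e : Bool
  s : Bool
deriving DecidableEq

namespace GK

variable {k : ℕ}

/-- first coordinate of the action -/
def ac (e s : Bool) (x y : R k) : R k := cond e (-cond s y x) (cond s y x)

@[simp] theorem ac_ff (x y : R k) : ac false false x y = x := rfl
@[simp] theorem ac_ft (x y : R k) : ac false true x y = y := rfl
@[simp] theorem ac_tf (x y : R k) : ac true false x y = -x := rfl
@[simp] theorem ac_tt (x y : R k) : ac true true x y = -y := rfl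

instance instMul : Mul (GK k) :=
  ⟨fun a b => ⟨a.x + ac a.e a.s b.x b.y, a.y + ac a.e a.s b.y b.x, xor a.e b.e, xor a.s b.s⟩⟩
instance instOne : One (GK k) := ⟨⟨0, 0, false, false⟩⟩
instance instInv : Inv (GK k) := ⟨fun a => ⟨-ac a.e a.s a.x a.y, -ac a.e a.s a.y a.x, a.e, a.s⟩⟩

theorem mul_def (x y x' y' : R k) (e s e' s' : Bool) : (⟨x, y, e, s⟩ * ⟨x', y', e', s'⟩ : GK k) =
    ⟨x + ac e s x' y', y + ac e s y' x', xor e e', xor s s'⟩ := rfl
theorem one_def : (1 : GK k) = ⟨0, 0, false, false⟩ := rfl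
theorem inv_def (x y : R k) (e s : Bool) :
    (⟨x, y, e, s⟩⁻¹ : GK k) = ⟨-ac e s x y, -ac e s y x, e, s⟩ := rfl

instance instGroup : Group (GK k) := Group.ofLeftAxioms
  (by
    rintro ⟨x, y, e, s⟩ ⟨x', y', e', s'⟩ ⟨x'', y'', e'', s''⟩
    cases e <;> cases s <;> cases e' <;> cases s' <;> simp [mul_def] <;> constructor <;> ring)
  (by rintro ⟨x, y, e, s⟩; simp [mul_def, one_def])
  (by rintro ⟨x, y, e, s⟩; cases e <;> cases s <;> simp [mul_def, one_def, inv_def])

/-- coordinates -/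
def eqv : GK k ≃ R k × R k × Bool × Bool where
  toFun a := (a.x, a.y, a.e, a.s)
  invFun a := ⟨a.1, a.2.1, a.2.2.1, a.2.2.2⟩
  left_inv _ := rfl
  right_inv _ := rfl

instance instFinite : Finite (GK k) := Finite.of_equiv _ eqv.symm

theorem card_eq : Nat.card (GK k) = 2 ^ (2 * k + 6) := by
  rw [Nat.card_congr eqv]; simp; ring

theorem isPGroup : IsPGroup 2 (GK k) := IsPGroup.of_card card_eq

end GK

open GK

variable {k : ℕ}

/-- the element of additive order 4 -/
def q4 (k : ℕ) : R k := 2 ^ k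
/-- the element of additive order 2 -/
def m2 (k : ℕ) : R k := 2 ^ (k + 1)

theorem two_q4 : 2 * q4 k = m2 k := (pow_succ' _ _).symm
theorem two_m2 : 2 * m2 k = 0 := by rw [m2, ← pow_succ']; exact Z2.two_pow_self
theorem m2_ne : m2 k ≠ 0 := by rw [m2, Ne, Z2.two_pow_eq_zero_iff]; omega
theorem two_eq_zero {x : R k} : 2 * x = 0 ↔ x = 0 ∨ x = m2 k := Z2.two_mul_eq_zero_iff x
theorem two_ne_odd (a b : R k) : 2 * a ≠ 2 * b + 1 := Z2.two_mul_ne_odd (by omega) a b
theorem par (a : R k) : (∃ b, a = 2 * b) ∨ ∃ b, a = 2 * b + 1 := Z2.even_or_odd a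

/-- parity -/
def pr (k : ℕ) : R k →+* ZMod 2 := ZMod.castHom (dvd_pow_self 2 (by omega)) (ZMod 2)

theorem pr_two (a : R k) : pr k (2 * a) = 0 := by
  rw [map_mul, map_ofNat, show (2 : ZMod 2) = 0 from rfl, zero_mul]

theorem pr_eq_zero {a : R k} : pr k a = 0 ↔ ∃ b, a = 2 * b := by
  refine ⟨fun h => (par a).resolve_right ?_, ?_⟩
  · rintro ⟨b, rfl⟩; rw [map_add, pr_two, map_one] at h; exact absurd h (by decide)
  · rintro ⟨b, rfl⟩; exact pr_two b

theorem pr_eq_one {a : R k} : pr k a = 1 ↔ ∃ b, a = 2 * b + 1 := by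
  refine ⟨fun h => (par a).resolve_left ?_, ?_⟩
  · rintro ⟨b, rfl⟩; rw [pr_two] at h; exact absurd h (by decide)
  · rintro ⟨b, rfl⟩; rw [map_add, pr_two, map_one, zero_add]

theorem pr_neg (a : R k) : pr k (-a) = pr k a := by rw [map_neg, ZMod.neg_eq_self_mod_two]

/-- the central involution -/
def gz (k : ℕ) : GK k := ⟨m2 k, m2 k, false, false⟩
/-- the involution of `⟨a⟩` -/
def g0 (k : ℕ) : GK k := ⟨m2 k, 0, false, false⟩
/-- generator -/
def ga (k : ℕ) : GK k := ⟨1, 0, false, false⟩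
/-- generator -/
def gb (k : ℕ) : GK k := ⟨0, 1, false, false⟩
/-- generator -/
def gu (k : ℕ) : GK k := ⟨0, 0, true, false⟩
/-- generator -/
def gv (k : ℕ) : GK k := ⟨0, 0, false, true⟩

theorem neg_m2 : -m2 k = m2 k := by linear_combination -two_m2 (k := k)

theorem gz_comm (a : GK k) : a * gz k = gz k * a := by
  obtain ⟨x, y, e, s⟩ := a
  cases e <;> cases s <;> simp [mul_def, gz, neg_m2, add_comm]

theorem gz_sq : gz k * gz k = 1 := by simp [mul_def, gz, one_def, ← two_mul, two_m2]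

theorem gz_ne : gz k ≠ 1 := by simp [gz, one_def, m2_ne]

theorem g0z : g0 k * gz k = ⟨0, m2 k, false, false⟩ := by simp [mul_def, g0, gz, ← two_mul, two_m2]

theorem inU_iff {a : GK k} :
    InU (gz k) (g0 k) a ↔ 2 * a.x = 0 ∧ 2 * a.y = 0 ∧ a.e = false ∧ a.s = false := by
  obtain ⟨x, y, e, s⟩ := a
  rw [InU, g0z]
  simp only [gz, g0, one_def, GK.mk.injEq, two_eq_zero]
  tauto

theorem center_eq {a : GK k} (h : ∀ b, b * a = a * b) : a = 1 ∨ a = gz k := by
  obtain ⟨x, y, e, s⟩ := a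
  have h1 := h (ga k)
  have h2 := h (gu k)
  have h3 := h (gv k)
  have h4 := two_ne_odd (k := k) 0 0
  have h5 : (2 : R k) ≠ 0 := by
    have := (Z2.two_pow_eq_zero_iff (n := k + 2) (k := 1)).not.2 (by omega)
    simpa using this
  cases e <;> cases s <;> simp [mul_def, ga, gu, gv] at h1 h2 h3
  · have : 2 * x = 0 := by linear_combination -h2.1
    rcases two_eq_zero.1 this with r | r
    · left; rw [one_def, ← h3.2, r]
    · right; rw [gz, ← h3.2, r]
  · exact absurd (by linear_combination -h1) h4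
  · exact absurd (by linear_combination h1) h5
  · exact absurd (by linear_combination -h1) h4

theorem inj_of_gz {G : Type*} [Group G] (ι : GK k →* G) (h : ι (gz k) ≠ 1) :
    Function.Injective ι := by
  rw [← MonoidHom.ker_eq_bot_iff]
  by_contra r
  obtain ⟨⟨a, ha, hc⟩, h1⟩ := ne_bot_iff_exists_ne_one.1 (PLocal.GN.inf_center_ne_bot isPGroup r)
  rcases center_eq (mem_center_iff.1 hc) with r | r
  · exact h1 (Subtype.ext r)
  · exact h (r ▸ ha)

theorem zh : ZH (gz k) (g0 k) := by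
  refine ⟨gz_comm, gz_sq, gz_ne, ?_, ?_, ?_, ?_, ⟨gv k, ?_⟩, ⟨ga k, gv k, ?_⟩, ?_⟩
  · simp [mul_def, g0, one_def, ← two_mul, two_m2]
  · simp [g0, one_def, m2_ne]
  · simp [g0, gz, m2_ne.symm]
  · rintro ⟨x, y, e, s⟩ h
    rw [inU_iff]
    cases e <;> cases s <;> simp [mul_def, one_def] at h ⊢
    · exact ⟨by linear_combination h.1, by linear_combination h.2⟩
    · exact ⟨by linear_combination h.1, by linear_combination h.2⟩
    · exact ⟨by linear_combination h.1, by linear_combination h.2⟩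
  · rw [g0z]; simp [mul_def, inv_def, gv, g0]
  · have := two_ne_odd (k := k) 0 0
    simp [mul_def, ga, gv] at this ⊢
    exact fun _ => this
  · rintro ⟨x, y, e, s⟩ h
    simp only [inU_iff]
    cases e <;> cases s <;> simp [mul_def, one_def] at h
    · exact Or.inl ⟨by linear_combination h.1, by linear_combination h.2, rfl, rfl⟩
    · refine Or.inr (Or.inl ⟨⟨q4 k, q4 k, false, false⟩, ?_, ?_⟩)
      · simp [mul_def, add_comm]
      · simp [mul_def, gz, ← two_mul, two_q4]
    · rcases par (x - y) with ⟨c, hc⟩ | ⟨c, hc⟩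
      · refine Or.inr (Or.inl ⟨⟨c, m2 k - c, false, true⟩, ?_, ?_⟩)
        · simp only [mul_def, GK.mk.injEq, ac_ft, ac_tf]
          exact ⟨by linear_combination -hc, by linear_combination hc + two_m2, rfl, rfl⟩
        · simp [mul_def, gz]
      · refine Or.inr (Or.inr ⟨by simp [mul_def, g0, neg_m2, add_comm], ?_⟩)
        rintro ⟨x', y', e', s'⟩ h'
        cases e' <;> cases s' <;> simp [mul_def] at h'
        · exact Or.inl ⟨by linear_combination h'.1, by linear_combination h'.2, rfl, rfl⟩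
        · exact absurd (by linear_combination h'.1 + hc) (two_ne_odd x' c)
        · have e1 : ∃ c, x - x' = 2 * c := by
            rcases (two_eq_zero (x := x - x')).1 (by linear_combination -h'.1) with r | r
            exacts [⟨0, by rw [r, mul_zero]⟩, ⟨_, r.trans two_q4.symm⟩]
          have e2 : ∃ c, y - y' = 2 * c := by
            rcases (two_eq_zero (x := y - y')).1 (by linear_combination -h'.2) with r | r
            exacts [⟨0, by rw [r, mul_zero]⟩, ⟨_, r.trans two_q4.symm⟩]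
          obtain ⟨c1, e1⟩ := e1
          obtain ⟨c2, e2⟩ := e2
          refine Or.inr ⟨⟨c1, c2, false, false⟩, ?_⟩
          simp [mul_def, inv_def]
          exact ⟨by linear_combination -e1, by linear_combination -e2⟩
        · exact absurd (by linear_combination h'.1 + hc) (two_ne_odd (x' - y) c)
    · refine Or.inr (Or.inl ⟨⟨q4 k, -q4 k, false, false⟩, ?_, ?_⟩)
      · simp [mul_def, add_comm]
      · simp only [mul_def, gz, GK.mk.injEq, ac_ff]
        exact ⟨by linear_combination two_q4, by linear_combination -two_q4 - two_m2, rfl, rfl⟩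

/-- the value of a Boolean in `ZMod 2` -/
def bz (e : Bool) : ZMod 2 := cond e 1 0

theorem bz_xor : ∀ e e', bz (xor e e') = bz e + bz e' := by decide

/-- the linear characters -/
def chi (k : ℕ) (α β γ : ZMod 2) : GK k →* Multiplicative (ZMod 2) := MonoidHom.mk'
  (fun a => Multiplicative.ofAdd (α * pr k (a.x + a.y) + β * bz a.e + γ * bz a.s)) (by
    rintro ⟨x, y, e, s⟩ ⟨x', y', e', s'⟩
    rw [← ofAdd_add, mul_def]
    congr 1
    simp only [bz_xor, map_add]
    cases e <;> cases s <;> simp only [ac_ff, ac_ft, ac_tf, ac_tt, pr_neg] <;> ring)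

theorem mem_chi {α β γ : ZMod 2} {a : GK k} :
    a ∈ (chi k α β γ).ker ↔ α * pr k (a.x + a.y) + β * bz a.e + γ * bz a.s = 0 := Iff.rfl

theorem card_chi {α β γ : ZMod 2} (h : α ≠ 0 ∨ β ≠ 0 ∨ γ ≠ 0) :
    Nat.card (chi k α β γ).ker * 2 = Nat.card (GK k) := by
  rw [← card_mul_index (chi k α β γ).ker, index_ker, MonoidHom.range_eq_top_of_surjective]
  · simp
  · have key : ∀ a b : Multiplicative (ZMod 2), b ≠ 1 → a = 1 ∨ a = b := by decide
    obtain ⟨b, hb⟩ : ∃ b, b ∉ (chi k α β γ).ker := by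
      rcases h with h | h | h
      · exact ⟨ga k, by rw [mem_chi]; simpa [ga, bz] using h⟩
      · exact ⟨gu k, by rw [mem_chi]; simpa [gu, bz] using h⟩
      · exact ⟨gv k, by rw [mem_chi]; simpa [gv, bz] using h⟩
    intro a
    rcases key a _ hb with r | r
    exacts [⟨1, by rw [r, map_one]⟩, ⟨b, r.symm⟩]

theorem invol_wr {a : GK k} (ha : a ∈ (chi k 0 1 0).ker) (h : a * a = 1) :
    InU (gz k) (g0 k) a ∨ ∃ c, c * gv k * c⁻¹ = a := by
  obtain ⟨x, y, e, s⟩ := a
  rw [inU_iff]
  rw [mem_chi] at ha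
  cases e <;> cases s <;> simp [mul_def, one_def, bz] at h ha
  · exact Or.inl ⟨by linear_combination h.1, by linear_combination h.2, rfl, rfl⟩
  · refine Or.inr ⟨⟨x, 0, false, false⟩, ?_⟩
    simp [mul_def, inv_def, gv]
    linear_combination -h.1

theorem invol_six {a : GK k} (ha : a ∈ (chi k 1 0 1).ker) (h : a * a = 1) :
    InU (gz k) (g0 k) a ∨ ∀ b, b * a = a * b → b * b * (b * b) = 1 := by
  obtain ⟨x, y, e, s⟩ := a
  rw [inU_iff]
  cases e <;> cases s <;> simp only [mul_def, one_def, mem_chi, bz, GK.mk.injEq, ac_ff, ac_ft, ac_tf,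
    ac_tt] at h ha
  · exact Or.inl ⟨by linear_combination h.1, by linear_combination h.2.1, rfl, rfl⟩
  · simp [h.1] at ha
  · refine Or.inr ?_
    rintro ⟨x', y', e', s'⟩ h'
    cases e' <;> cases s' <;> simp [mul_def, one_def] at h' ⊢
    · exact ⟨by linear_combination 2 * h'.1, by linear_combination 2 * h'.2⟩
    · exact ⟨by linear_combination h'.1 + h'.2, by linear_combination h'.1 + h'.2⟩
    · exact ⟨by linear_combination h'.1 - h'.2, by linear_combination h'.2 - h'.1⟩
  · rw [show x + y = 2 * y by linear_combination h.1, pr_two] at ha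
    simp at ha

section lift

variable {G : Type*} [Group G]

theorem pw_add {a : G} (ha : a ^ 2 ^ (k + 2) = 1) (i j : R k) :
    a ^ (i + j).val = a ^ i.val * a ^ j.val := by
  rw [ZMod.val_add, ← pow_add, ← pow_eq_pow_mod _ ha]

theorem pw_neg {a : G} (ha : a ^ 2 ^ (k + 2) = 1) (i : R k) : a ^ (-i).val = (a ^ i.val)⁻¹ := by
  rw [eq_inv_iff_mul_eq_one, ← pw_add ha, neg_add_cancel, ZMod.val_zero, pow_zero]

/-- the defining relations -/
structure Rel (k : ℕ) (a b u v : G) : Prop where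
  ha : a ^ 2 ^ (k + 2) = 1
  ab : a * b = b * a
  ua : u * a * u⁻¹ = a⁻¹
  va : v * a * v⁻¹ = b
  uu : u * u = 1
  vv : v * v = 1
  uv : u * v = v * u

variable {a b u v : G}

theorem Rel.hb (h : Rel k a b u v) : b ^ 2 ^ (k + 2) = 1 := by rw [← h.va, conj_pow, h.ha]; simp

theorem Rel.vb (h : Rel k a b u v) : v * b * v⁻¹ = a := by
  rw [← h.va, ← mul_assoc, ← mul_assoc, h.vv, mul_assoc, ← mul_inv_rev, h.vv]; simp

theorem Rel.ub (h : Rel k a b u v) : u * b * u⁻¹ = b⁻¹ := by
  rw [← h.va, ← mul_assoc, ← mul_assoc, h.uv, mul_assoc, ← mul_inv_rev, h.uv, mul_inv_rev,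
    show v * u * a * (u⁻¹ * v⁻¹) = v * (u * a * u⁻¹) * v⁻¹ by group, h.ua]
  group

theorem Rel.cj (h : Rel k a b u v) (e s : Bool) (x y : R k) :
    cond e u 1 * cond s v 1 * (a ^ x.val * b ^ y.val) =
      a ^ (ac e s x y).val * b ^ (ac e s y x).val * (cond e u 1 * cond s v 1) := by
  have c : ∀ i j : ℕ, a ^ i * b ^ j = b ^ j * a ^ i := fun i j => Commute.pow_pow h.ab i j
  have hu : ∀ i j : R k, u * (a ^ i.val * b ^ j.val) = a ^ (-i).val * b ^ (-j).val * u := fun i j => by
    rw [pw_neg h.ha, pw_neg h.hb, ← inv_pow, ← inv_pow, ← h.ua, ← h.ub, conj_pow, conj_pow]; group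
  have hv : ∀ i j : R k, v * (a ^ i.val * b ^ j.val) = a ^ j.val * b ^ i.val * v := fun i j => by
    rw [c j.val]
    calc _ = (v * a * v⁻¹) ^ i.val * (v * b * v⁻¹) ^ j.val * v := by rw [conj_pow, conj_pow]; group
      _ = _ := by rw [h.va, h.vb]
  cases e <;> cases s <;> simp only [cond_true, cond_false, ac_ff, ac_ft, ac_tf, ac_tt, one_mul, mul_one]
  · exact hv x y
  · exact hu x y
  · rw [mul_assoc, hv, ← mul_assoc, hu, mul_assoc]

/-- the homomorphism given by the relations -/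
def Rel.lift (h : Rel k a b u v) : GK k →* G := MonoidHom.mk'
  (fun g => a ^ g.x.val * b ^ g.y.val * (cond g.e u 1 * cond g.s v 1)) (by
    rintro ⟨x, y, e, s⟩ ⟨x', y', e', s'⟩
    have c : ∀ i j : ℕ, a ^ i * b ^ j = b ^ j * a ^ i := fun i j => Commute.pow_pow h.ab i j
    have e1 : cond (xor e e') u 1 * cond (xor s s') v 1 =
        cond e u 1 * cond s v 1 * (cond e' u 1 * cond s' v 1) := by
      have h1 : ∀ w, u * (u * w) = w := fun w => by rw [← mul_assoc, h.uu, one_mul]
      have h2 : ∀ w, v * (u * w) = u * (v * w) := fun w => by rw [← mul_assoc, ← h.uv, mul_assoc]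
      cases e <;> cases s <;> cases e' <;> cases s' <;> simp [mul_assoc, h1, h2, h.uu, h.vv, ← h.uv]
    simp only [mul_def]
    rw [pw_add h.ha, pw_add h.hb, e1]
    calc _ = a ^ x.val * (a ^ (ac e s x' y').val * b ^ y.val) * (b ^ (ac e s y' x').val *
          (cond e u 1 * cond s v 1)) * (cond e' u 1 * cond s' v 1) := by simp only [mul_assoc]
      _ = a ^ x.val * b ^ y.val * (a ^ (ac e s x' y').val * b ^ (ac e s y' x').val *
          (cond e u 1 * cond s v 1)) * (cond e' u 1 * cond s' v 1) := by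
        rw [c (ac e s x' y').val]; simp only [mul_assoc]
      _ = _ := by rw [← h.cj]; simp only [mul_assoc])

theorem Rel.lift_gz (h : Rel k a b u v) : h.lift (gz k) = (a * b) ^ 2 ^ (k + 1) := by
  have : (m2 k).val = 2 ^ (k + 1) := by
    have := ZMod.val_cast_of_lt (n := 2 ^ (k + 2)) (a := 2 ^ (k + 1))
      (Nat.pow_lt_pow_right (by omega) (by omega))
    rwa [Nat.cast_pow, Nat.cast_ofNat] at this
  rw [Commute.mul_pow h.ab]
  simp [Rel.lift, gz, this]

end lift

end Cfsg.Agent.GHO
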