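import Mathlib
import Cfsg.Agent.GHO.G2K

/-! The quaternion subgroups `Q₁`, `Q₂` and the abelian subgroup `A` of the model. -/

set_option autoImplicit false
set_option linter.unusedSectionVars false

namespace Cfsg.Agent.GHO

open Subgroup Cfsg.Agent.Inv Cfsg.Agent.BF Cfsg.Agent.TT GK

variable {k : ℕ}

theorem m2_add : m2 k + m2 k = 0 := by rw [← two_mul, two_m2]
theorem q4_add : q4 k + q4 k = m2 k := by rw [← two_mul, two_q4]

theorem two_eq_m2 {x : R k} : 2 * x = m2 k ↔ x = q4 k ∨ x = -q4 k := by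
  rw [← two_q4, ← sub_eq_zero, ← mul_sub, two_eq_zero]
  refine or_congr sub_eq_zero ⟨fun h => ?_, fun h => ?_⟩
  · linear_combination h + two_q4 + two_m2
  · linear_combination h - two_q4 - two_m2

/-- the homocyclic subgroup -/
def kA (k : ℕ) : Subgroup (GK k) where
  carrier := {a | a.e = false ∧ a.s = false}
  one_mem' := ⟨rfl, rfl⟩
  mul_mem' := by rintro ⟨x, y, e, s⟩ ⟨x', y', e', s'⟩ ⟨rfl, rfl⟩ ⟨rfl, rfl⟩; exact ⟨rfl, rfl⟩
  inv_mem' := by rintro ⟨x, y, e, s⟩ ⟨rfl, rfl⟩; exact ⟨rfl, rfl⟩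

theorem mem_kA {a : GK k} : a ∈ kA k ↔ a.e = false ∧ a.s = false := Iff.rfl

/-- the first quaternion subgroup -/
def Q1 (k : ℕ) : Subgroup (GK k) where
  carrier := {a | a.e = a.s ∧ a.x = a.y + cond a.s (m2 k) 0}
  one_mem' := ⟨rfl, by simp [one_def]⟩
  mul_mem' := by
    rintro ⟨x, y, e, s⟩ ⟨x', y', e', s'⟩ ⟨rfl : e = s, h⟩ ⟨rfl : e' = s', h'⟩
    cases e <;> cases e' <;> simp [mul_def] at h h' ⊢
    · linear_combination h + h'
    · linear_combination h + h'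
    · linear_combination h + h'
    · linear_combination h + h' + two_m2
  inv_mem' := by
    rintro ⟨x, y, e, s⟩ ⟨rfl : e = s, h⟩
    cases e <;> simp [inv_def] at h ⊢
    · exact h
    · linear_combination -h - two_m2

theorem mem_Q1 {a : GK k} : a ∈ Q1 k ↔ a.e = a.s ∧ a.x = a.y + cond a.s (m2 k) 0 := Iff.rfl

/-- the symmetry interchanging the two quaternion subgroups -/
def sy (k : ℕ) : GK k →* GK k := MonoidHom.mk' (fun a => ⟨a.x, -a.y, xor a.e a.s, a.s⟩) (by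
  rintro ⟨x, y, e, s⟩ ⟨x', y', e', s'⟩
  cases e <;> cases s <;> cases e' <;> cases s' <;> simp [mul_def, add_comm])

theorem sy_mk (x y : R k) (e s : Bool) : sy k ⟨x, y, e, s⟩ = ⟨x, -y, xor e s, s⟩ := rfl

theorem sy_sy (a : GK k) : sy k (sy k a) = a := by
  obtain ⟨x, y, e, s⟩ := a; simp [sy_mk]

theorem sy_bij : Function.Bijective (sy k) := Function.Involutive.bijective sy_sy

/-- the second quaternion subgroup -/
def Q2 (k : ℕ) : Subgroup (GK k) := (Q1 k).comap (sy k)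

theorem mem_Q2 {a : GK k} : a ∈ Q2 k ↔ a.e = false ∧ a.x + a.y = cond a.s (m2 k) 0 := by
  obtain ⟨x, y, e, s⟩ := a
  rw [Q2, mem_comap, sy_mk, mem_Q1]
  cases e <;> cases s <;> simp [eq_neg_iff_add_eq_zero, eq_neg_add_iff_add_eq, add_comm]

theorem map_sy_Q1 : (Q1 k).map (sy k) = Q2 k := by
  ext a
  exact ⟨by rintro ⟨b, hb, rfl⟩; rwa [Q2, mem_comap, sy_sy], fun h => ⟨_, h, sy_sy a⟩⟩

theorem map_sy_Q2 : (Q2 k).map (sy k) = Q1 k := map_comap_eq_self_of_surjective sy_bij.2 _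

theorem sy_gz : sy k (gz k) = gz k := by simp [gz, sy_mk, neg_m2]
theorem sy_g0 : sy k (g0 k) = g0 k := by simp [g0, sy_mk]
theorem sy_gv : sy k (gv k) = gu k * gv k := by simp [gv, gu, sy_mk, mul_def]
theorem sy_guv : sy k (gu k * gv k) = gv k := by rw [← sy_gv, sy_sy]

/-- an element of order 4 of `Q₁ ∩ A` -/
def gi (k : ℕ) : GK k := ⟨q4 k, q4 k, false, false⟩
/-- an element of order 4 of `Q₁` outside `A` -/
def gw (k : ℕ) : GK k := ⟨q4 k, -q4 k, true, true⟩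

theorem gi_mem : gi k ∈ Q1 k := by simp [gi, mem_Q1]
theorem gw_mem : gw k ∈ Q1 k := ⟨rfl, by simp only [gw, cond_true]; linear_combination two_q4⟩
theorem gz_mem : gz k ∈ Q1 k := by simp [gz, mem_Q1]
theorem gz_mem2 : gz k ∈ Q2 k := by simp [gz, mem_Q2, m2_add]
theorem gi_sq : gi k * gi k = gz k := by simp [gi, gz, mul_def, q4_add]
theorem gw_sq : gw k * gw k = gz k := by
  simp only [gw, gz, mul_def, ac_tt, GK.mk.injEq]
  exact ⟨by linear_combination two_q4, by linear_combination -two_q4 - two_m2, rfl, rfl⟩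
theorem gi_gw : gi k * gw k ≠ gw k * gi k := fun h => m2_ne (k := k) (by
  simp only [gi, gw, mul_def, ac_tt, ac_ff, GK.mk.injEq] at h
  linear_combination h.1 - two_q4)

theorem kA_comm {a b : GK k} (ha : a ∈ kA k) (hb : b ∈ kA k) : a * b = b * a := by
  obtain ⟨x, y, e, s⟩ := a; obtain ⟨x', y', e', s'⟩ := b
  obtain ⟨rfl, rfl⟩ := ha; obtain ⟨rfl, rfl⟩ := hb
  simp [mul_def, add_comm]

theorem sq_mem_kA (a : GK k) : a * a ∈ kA k := by
  obtain ⟨x, y, e, s⟩ := a; simp [mem_kA, mul_def]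

theorem kA_norm (c : GK k) {a : GK k} (h : a ∈ kA k) : c * a * c⁻¹ ∈ kA k := by
  obtain ⟨x, y, e, s⟩ := a; obtain ⟨x', y', e', s'⟩ := c
  obtain ⟨rfl, rfl⟩ := h
  simp [mem_kA, mul_def, inv_def]

theorem Q1_norm (c : GK k) {a : GK k} (h : a ∈ Q1 k) : c * a * c⁻¹ ∈ Q1 k := by
  obtain ⟨x, y, e, s⟩ := a; obtain ⟨x', y', e', s'⟩ := c
  obtain ⟨rfl : e = s, h⟩ := h
  cases e <;> cases e' <;> cases s' <;> simp [mem_Q1, mul_def, inv_def] at h ⊢ <;>
    first | linear_combination h | linear_combination -h | linear_combination -h - two_m2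

theorem Q2_norm (c : GK k) {a : GK k} (h : a ∈ Q2 k) : c * a * c⁻¹ ∈ Q2 k := by
  rw [Q2, mem_comap, map_mul, map_mul, map_inv]; exact Q1_norm _ h

theorem Q_comm {a b : GK k} (ha : a ∈ Q1 k) (hb : b ∈ Q2 k) : a * b = b * a := by
  obtain ⟨x, y, e, s⟩ := a; obtain ⟨x', y', e', s'⟩ := b
  obtain ⟨rfl : e = s, h⟩ := ha; obtain ⟨rfl, h'⟩ := mem_Q2.1 hb
  cases e <;> cases s' <;> simp [mul_def] at h h' ⊢
  · exact ⟨add_comm _ _, add_comm _ _⟩
  · exact ⟨by linear_combination h, by linear_combination -h⟩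
  · exact ⟨by linear_combination -h', by linear_combination -h'⟩
  · exact ⟨by linear_combination h - h', by linear_combination -h - h' - two_m2⟩

theorem Q_inf {a : GK k} (ha : a ∈ Q1 k) (hb : a ∈ Q2 k) : a = 1 ∨ a = gz k := by
  obtain ⟨x, y, e, s⟩ := a
  obtain ⟨rfl : e = s, h⟩ := ha; obtain ⟨rfl, h'⟩ := mem_Q2.1 hb
  simp only [cond_false, add_zero] at h h'
  subst h
  rcases (two_eq_zero (x := x)).1 (by linear_combination h') with rfl | rfl
  exacts [Or.inl rfl, Or.inr rfl]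

theorem cent_Q1 {a : GK k} (h : ∀ b ∈ Q1 k, a * b = b * a) : a ∈ Q2 k := by
  obtain ⟨x, y, e, s⟩ := a
  have h1 := h _ gi_mem
  have h2 := h _ gw_mem
  rw [mem_Q2]
  cases e <;> cases s <;> simp [mul_def, gi, gw] at h1 h2 ⊢
  · linear_combination h2.1
  · linear_combination h2.1 + two_q4
  · exact m2_ne (k := k) (by linear_combination -h1.1 - two_q4)
  · exact m2_ne (k := k) (by linear_combination -h1.1 - two_q4)

theorem cent_Q2 {a : GK k} (h : ∀ b ∈ Q2 k, a * b = b * a) : a ∈ Q1 k := by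
  have := cent_Q1 (a := sy k a) fun b hb => by
    rw [← sy_sy b, ← map_mul, ← map_mul, h _ (map_sy_Q1.le ⟨b, hb, rfl⟩)]
  rwa [Q2, mem_comap, sy_sy] at this

theorem sq_eq_gz {a : GK k} (h : a * a = gz k) : a ∈ Q1 k ∨ a ∈ Q2 k := by
  obtain ⟨x, y, e, s⟩ := a
  rw [mem_Q1, mem_Q2]
  cases e <;> cases s <;> simp [mul_def, gz, ← two_mul, two_eq_m2, m2_ne.symm] at h ⊢
  · rcases h with ⟨rfl | rfl, rfl | rfl⟩ <;> simp
  · exact h.1
  · linear_combination h.1

theorem Q1_four {a : GK k} (ha : a ∈ Q1 k) (h : a * a = gz k) :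
    (∃ c, c * gi k * c⁻¹ = a) ∨ ∃ c, c * gw k * c⁻¹ = a := by
  obtain ⟨x, y, e, s⟩ := a
  obtain ⟨rfl : e = s, h'⟩ := ha
  cases e <;> simp [mul_def, gz, ← two_mul, two_eq_m2] at h h'
  · subst h'
    rcases h.1 with rfl | rfl
    · exact Or.inl ⟨1, by simp [gi]⟩
    · exact Or.inl ⟨gu k, by simp [gi, gu, mul_def, inv_def]⟩
  · refine Or.inr ⟨⟨x - q4 k, 0, false, false⟩, ?_⟩
    simp [gw, mul_def, inv_def]
    linear_combination h' - two_q4

theorem A_Q1_four {a : GK k} (hA : a ∈ kA k) (ha : a ∈ Q1 k) (h : a * a = gz k) :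
    a = gi k ∨ a = (gi k)⁻¹ := by
  obtain ⟨x, y, e, s⟩ := a
  obtain ⟨rfl, rfl⟩ := hA
  obtain ⟨-, h'⟩ := ha
  simp [mul_def, gz, ← two_mul, two_eq_m2] at h h'
  subst h'
  rcases h.1 with rfl | rfl <;> simp [gi, inv_def]

theorem comm_gi {a : GK k} : a * gi k = gi k * a ↔ a ∈ (chi k 0 1 0).ker := by
  obtain ⟨x, y, e, s⟩ := a
  have : -q4 k ≠ q4 k := fun h => m2_ne (k := k) (by linear_combination -h - two_q4)
  rw [mem_chi]
  cases e <;> cases s <;> simp [mul_def, gi, bz, add_comm, this]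

theorem comm_g0 {a : GK k} : a * g0 k = g0 k * a ↔ a ∈ (chi k 0 0 1).ker := by
  obtain ⟨x, y, e, s⟩ := a
  rw [mem_chi]
  cases e <;> cases s <;> simp [mul_def, g0, bz, add_comm, m2_ne, neg_m2]

theorem mem_chi_e {a : GK k} : a ∈ (chi k 0 1 0).ker ↔ a.e = false := by
  rw [mem_chi]; cases a.e <;> simp [bz]

theorem mem_chi_s {a : GK k} : a ∈ (chi k 0 0 1).ker ↔ a.s = false := by
  rw [mem_chi]; cases a.s <;> simp [bz]

theorem dec_Q {a : GK k} (h : ∃ c, a.x + a.y = 2 * c) : ∃ b ∈ Q1 k, ∃ c ∈ Q2 k, a = b * c := by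
  obtain ⟨x, y, e, s⟩ := a
  obtain ⟨c, hc⟩ := h
  simp only [mem_Q1, mem_Q2] at hc ⊢
  cases e <;> cases s
  · refine ⟨⟨c, c, false, false⟩, by simp, ⟨x - c, y - c, false, false⟩, ⟨rfl, ?_⟩, by simp [mul_def]⟩
    simp only [cond_false]; linear_combination hc
  · refine ⟨⟨c - q4 k, c - q4 k, false, false⟩, by simp,
      ⟨x - c + q4 k, y - c + q4 k, false, true⟩, ⟨rfl, ?_⟩, by simp [mul_def]⟩
    simp only [cond_true]; linear_combination hc + two_q4
  · refine ⟨⟨c + m2 k, c + 2 * m2 k, true, true⟩, ⟨rfl, ?_⟩,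
      ⟨c + 2 * m2 k - y, c + m2 k - x, false, true⟩, ⟨rfl, ?_⟩, by simp [mul_def]⟩
    · simp only [cond_true]; linear_combination -two_m2
    · simp only [cond_true]; linear_combination two_m2 - hc
  · refine ⟨⟨c + q4 k, c - q4 k, true, true⟩, ⟨rfl, ?_⟩,
      ⟨c - q4 k - y, c + q4 k - x, false, false⟩, ⟨rfl, ?_⟩, by simp [mul_def]⟩
    · simp only [cond_true]; linear_combination two_q4
    · simp only [cond_false]; linear_combination -hc

theorem even_of_eqv {a : GK k} (h : Eqv (gz k) (a * gw k * a⁻¹) (gw k)) :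
    ∃ c, a.x + a.y = 2 * c := by
  obtain ⟨x, y, e, s⟩ := a
  rcases h with h | h <;> cases e <;> cases s <;> simp [mul_def, inv_def, gw, gz] at h ⊢
  · exact ⟨0, by linear_combination h.1⟩
  · exact ⟨q4 k, by linear_combination h.1⟩
  · exact ⟨q4 k, by linear_combination h.1⟩
  · exact ⟨0, by linear_combination h.1⟩
  · exact ⟨-q4 k, by linear_combination h.1 + two_q4⟩
  · exact ⟨0, by linear_combination h.1 + two_q4⟩
  · exact ⟨0, by linear_combination h.1 + two_q4⟩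
  · exact ⟨-q4 k, by linear_combination h.1 + two_q4⟩

theorem pw_mk (x y : R k) (n : ℕ) :
    (⟨x, y, false, false⟩ : GK k) ^ n = ⟨n * x, n * y, false, false⟩ := by
  induction n with
  | zero => simp [one_def]
  | succ n ih => rw [pow_succ, ih]; simp [mul_def, add_mul]

theorem exists_mul_eq {c : R k} {j : ℕ} (h : 2 ^ (j + 1) * c ≠ 0) :
    ∃ n : ℕ, 2 ^ j * (n * c) = m2 k := by
  obtain ⟨i, -, b, rfl⟩ := Z2.exists_eq_two_pow_mul_odd c
  obtain ⟨u, hu⟩ := Z2.exists_odd_mul_eq_one b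
  have hi : j + 1 + i < k + 2 := by
    by_contra r
    exact h (by rw [← mul_assoc, ← pow_add, Z2.two_pow_eq_zero_iff.2 (by omega), zero_mul])
  obtain ⟨l, hl⟩ : ∃ l, k + 1 = j + i + l := ⟨k + 1 - (j + i), by omega⟩
  refine ⟨(2 ^ l * u).val, ?_⟩
  rw [ZMod.natCast_zmod_val, m2, show (2 : R k) ^ (k + 1) = 2 ^ (j + i + l) from congrArg _ hl]
  linear_combination 2 ^ (j + i + l) * hu

theorem Q1_pow {a : GK k} (ha : a ∈ Q1 k) (h1 : a ≠ 1) (hz : a ≠ gz k) :
    ∃ n : ℕ, a ^ n * a ^ n = gz k := by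
  obtain ⟨x, y, e, s⟩ := a
  obtain ⟨rfl : e = s, h'⟩ := ha
  cases e <;> simp only [cond_true, cond_false, add_zero] at h'
  · subst h'
    have : 2 * x ≠ 0 := fun r => by
      rcases two_eq_zero.1 r with rfl | rfl
      exacts [h1 rfl, hz rfl]
    by_cases h4 : 2 ^ 2 * x = 0
    · refine ⟨1, ?_⟩
      have := (two_eq_zero (x := 2 * x)).1 (by linear_combination h4)
      simp_all [mul_def, gz, ← two_mul]
    · obtain ⟨n, hn⟩ := exists_mul_eq (j := 1) h4
      exact ⟨n, by rw [pw_mk]; simpa [mul_def, gz, ← two_mul] using hn⟩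
  · refine ⟨1, ?_⟩
    simp only [pow_one, mul_def, gz, ac_tt, GK.mk.injEq]
    exact ⟨by linear_combination h', by linear_combination -h' - two_m2, rfl, rfl⟩

theorem Q1_le {N : Subgroup (GK k)} (h : ∀ a ∈ Q1 k, a * a = gz k → a ∈ N) : Q1 k ≤ N := by
  have key : ∀ a ∈ Q1 k, a.e = true → a * a = gz k := by
    rintro ⟨x, y, e, s⟩ ⟨rfl : e = s, h'⟩ rfl
    simp only [mul_def, gz, ac_tt, GK.mk.injEq, cond_true] at h' ⊢
    exact ⟨by linear_combination h', by linear_combination -h' - two_m2, rfl, rfl⟩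
  intro a ha
  cases he : a.e
  · have h1 := mul_mem ha gw_mem
    exact (N.mul_mem_cancel_right (h _ gw_mem gw_sq)).1 (h _ h1 (key _ h1 (by
      obtain ⟨x, y, e, s⟩ := a; subst he; rfl)))
  · exact h a ha (key a ha he)

end Cfsg.Agent.GHO
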