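import Mathlib
import Cfsg.Agent.GHO.G2Q
import Cfsg.Agent.Lyons.Tools

/-! Fusion in the centraliser of the central involution: `Q₁` and `Q₂` are strongly closed. -/

set_option autoImplicit false
set_option linter.unusedSectionVars false

namespace Cfsg.Agent.GHO

open Subgroup Cfsg Cfsg.Agent.Inv Cfsg.Agent.BF Cfsg.Agent.TT GK Cfsg.Agent.PLocal.Amb
  Cfsg.Agent.Gold Cfsg.Agent.Lyons

variable {H : Type*} [Group H] [Finite H] {k : ℕ} {ι : GK k →* H} {g : H} {x y : GK k}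

theorem Cj.pow' (e : Cj ι g x y) (n : ℕ) : Cj ι g (x ^ n) (y ^ n) := by
  unfold Cj at *; rw [map_pow, map_pow, ← e, conj_pow]

/-- the model is a Sylow 2-subgroup and its central involution is central -/
structure ZC (ι : GK k →* H) : Prop extends MS ι ⊤ where
  cen : ∀ g, Cj ι g (gz k) (gz k)

namespace ZC

variable (d : ZC ι)
include d

theorem sy : ZC (ι.comp (sy k)) := by
  refine ⟨⟨d.inj.comp sy_bij.1, ?_⟩, fun g => ?_⟩
  · rw [MonoidHom.range_comp, MonoidHom.range_eq_top_of_surjective _ sy_bij.2,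
      ← MonoidHom.range_eq_map]
    exact d.syl
  · simpa only [Cj, MonoidHom.comp_apply, sy_gz] using d.cen g

theorem sq_gz (e : Cj ι g x y) : x * x = gz k ↔ y * y = gz k := (e.mul e).eq_iff d.inj (d.cen g)

theorem sylC {M : Subgroup (GK k)} (hM : Nat.card M * 2 = Nat.card (GK k))
    (h : ∀ a, a * y = y * a ↔ a ∈ M) : IsSyl 2 (M.map ι) 𝐜[ι y] := by
  refine ⟨map_le_c fun u hu => (h u).2 hu, d.pg _, fun P hP h1 h2 => ?_⟩
  by_contra h3
  obtain ⟨g, -, hg⟩ := d.syl.exists_cj_le hP le_top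
  have h4 : Nat.card (M.map ι) < Nat.card P :=
    Set.ncard_lt_ncard (lt_of_le_not_ge h1 h3 : M.map ι < P)
  obtain ⟨c, hc⟩ := card_dvd_of_le h1
  obtain ⟨n, hn⟩ := hP.exists_card_eq
  have h5 : cj(g, P) = ι.range := eq_of_le_of_card_ge hg (by
    rw [d.card, card_cj, ← hM, hc, card_map_of_injective d.inj]
    rw [hc] at h4
    have := (Nat.lt_mul_iff_one_lt_right Nat.card_pos).1 h4
    exact Nat.mul_le_mul_left _ this)
  obtain ⟨y', -, e⟩ := exists_cj (U := ⊤) (x := y) (g := g) (by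
    rw [← MonoidHom.range_eq_map, ← h5]; exact conj_mem_cj g (h1 ⟨y, (h y).1 rfl, rfl⟩))
  have h6 : ∀ b, b * y' = y' * b := fun b => by
    obtain ⟨p, hp, r⟩ := mem_cj_iff_exists.1 (h5.ge ⟨b, rfl⟩)
    refine d.inj ?_
    rw [map_mul, map_mul, ← r, ← e, conj_mul, conj_mul, mem_centralizer_singleton_iff.1 (h2 hp)]
  have h7 : ∀ b, b * y = y * b := by
    rcases center_eq h6 with r | r
    · rw [(e.eq_iff d.inj Cj.one).2 r]; simp
    · rw [(e.eq_iff d.inj (d.cen g)).2 r]; exact gz_comm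
  rw [show M = ⊤ from eq_top_iff.2 fun b _ => (h b).1 (h7 b), card_top] at hM
  have : 0 < Nat.card (GK k) := Nat.card_pos
  omega

theorem extr {M : Subgroup (GK k)} (hM : Nat.card M * 2 = Nat.card (GK k))
    (h : ∀ a, a * y = y * a ↔ a ∈ M) (e : Cj ι g x y) :
    ∃ n, Cj ι n x y ∧ ∀ w, w * x = x * w → ∃ w', Cj ι n w w' := by
  obtain ⟨c, hc, k1⟩ := (d.sylC hM h).exists_cj_le (R := cj(g, (𝐜[x]).map ι))
    (isPGroup_cj g (d.pg _))
    (by rw [← e.cent]; exact cj_mono g (map_le_c fun r hr => mem_centralizer_singleton_iff.1 hr))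
  rw [← cj_mul] at k1
  exact ⟨c * g, e.trans (cj_self.2 hc), fun w hw =>
    exists_cj_of_le' (k1.trans (map_le_range _ _)) (mem_centralizer_singleton_iff.2 hw)⟩

theorem g0_img (h : ∀ x ∈ kA k, ∃ y, Cj ι g x y) :
    Cj ι g (g0 k) (g0 k) ∨ Cj ι g (g0 k) (g0 k * gz k) := by
  obtain ⟨-, -, -, u2, u1, uz, sq, -⟩ := zh (k := k)
  obtain ⟨y, e⟩ := h ⟨q4 k, 0, false, false⟩ ⟨rfl, rfl⟩
  have e2 : Cj ι g (g0 k) (y * y) := by simpa [mul_def, q4_add, g0] using e.mul e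
  rcases sq y ((e2.sq d.inj).1 u2) with r | r | r | r
  exacts [absurd r (e2.ne_one d.inj u1), absurd ((e2.eq_iff d.inj (d.cen g)).2 r) uz,
    Or.inl (r ▸ e2), Or.inr (r ▸ e2)]

theorem wcA (h : ∀ x ∈ kA k, ∃ y, Cj ι g x y) : g ∈ 𝐍[(kA k).map ι] := by
  refine mem_normalizer_of_cj_le (cj_map_le fun x hx => ?_)
  obtain ⟨y, e⟩ := h x hx
  refine ⟨y, ?_, e⟩
  have h1 : y * g0 k = g0 k * y := by
    rcases d.g0_img h with r | r
    · exact (e.comm d.inj r).1 (kA_comm hx ⟨rfl, rfl⟩)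
    · have := (e.comm d.inj r).1 (kA_comm hx ⟨rfl, rfl⟩)
      rwa [← mul_assoc, mul_assoc (g0 k), ← gz_comm, ← mul_assoc, mul_left_inj] at this
  refine ⟨?_, mem_chi_s.1 (comm_g0.1 h1)⟩
  by_contra h2
  have h3 : x * x = 1 := (e.sq d.inj).2 (by
    have := mem_chi_s.1 (comm_g0.1 h1)
    obtain ⟨s, t, a, b⟩ := y
    cases a <;> cases b <;> simp_all [mul_def, one_def])
  obtain ⟨s, t, a, b⟩ := x
  obtain ⟨rfl, rfl⟩ := hx
  simp only [mul_def, one_def, ac_ff, GK.mk.injEq, ← two_mul, two_eq_zero] at h3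
  obtain ⟨s', hs⟩ : ∃ s', s = s' + s' := by
    rcases h3.1 with r | r
    exacts [⟨0, by simp [r]⟩, ⟨_, r.trans q4_add.symm⟩]
  obtain ⟨t', ht⟩ : ∃ s', t = s' + s' := by
    rcases h3.2.1 with r | r
    exacts [⟨0, by simp [r]⟩, ⟨_, r.trans q4_add.symm⟩]
  obtain ⟨w, e'⟩ := h ⟨s', t', false, false⟩ ⟨rfl, rfl⟩
  exact h2 (((e.eq_iff d.inj (e'.mul e')).1 (by simp [mul_def, hs, ht])) ▸ (sq_mem_kA w).1)

theorem centA (hg : g ∈ 𝐍[(kA k).map ι]) (ho : Odd (orderOf g)) : g ∈ 𝐂[(kA k).map ι] := by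
  have h0 : ∀ x ∈ kA k, ∃ y, Cj ι g x y := fun x hx => (exists_cj_of_norm hg hx).imp fun _ => And.right
  have key : ∀ {x w}, Cj ι g x (x * w) → Cj ι g w w → w * w = 1 → Cj ι g x x := fun {x w} a b c =>
    cj_self.2 (mem_of_odd_of_pow ho (k := 1) (cj_self.1 (by
      have := a.trans (a.mul b)
      rwa [mul_assoc, c, mul_one, ← sq] at this)))
  have h1 : Cj ι g (g0 k) (g0 k) := (d.g0_img h0).elim id fun r => key r (d.cen g) gz_sq
  have h2 : ∀ n : ℕ, ∀ x ∈ kA k, x ^ 2 ^ n = 1 → Cj ι g x x := by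
    intro n
    induction n with
    | zero => intro x _ hx; rw [show x = 1 by simpa using hx]; exact Cj.one
    | succ n ih =>
      intro x hx hn
      obtain ⟨y, hy, e⟩ := exists_cj_of_norm hg hx
      have e1 := ih (x * x) (mul_mem hx hx) (by rw [← sq, ← pow_mul, ← pow_succ', hn])
      have e2 : x⁻¹ * y * (x⁻¹ * y) = 1 := by
        rw [mul_assoc, ← mul_assoc y, kA_comm hy (inv_mem hx), mul_assoc,
          ((e.mul e).eq_iff d.inj e1).1 rfl]
        simp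
      refine key (w := x⁻¹ * y) (by simpa using e) ?_ e2
      have e3 : InU (gz k) (g0 k) (x⁻¹ * y) := by
        have := mul_mem (inv_mem hx) hy
        generalize x⁻¹ * y = w at this e2
        obtain ⟨s, t, a, b⟩ := w
        obtain ⟨rfl, rfl⟩ := this
        simpa [inU_iff, mul_def, one_def, two_mul] using e2
      rcases e3 with r | r | r | r <;> rw [r]
      exacts [Cj.one, d.cen g, h1, h1.mul (d.cen g)]
  rintro _ ⟨x, hx, rfl⟩
  obtain ⟨n, hn⟩ := isPGroup x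
  exact (mem_centralizer_singleton_iff.1 (cj_self.1 (h2 n x hx hn))).symm

theorem normA (hg : g ∈ 𝐍[(kA k).map ι]) (hx : x ∈ kA k) (e : Cj ι g x y) :
    ∃ c, c * x * c⁻¹ = y := by
  have h1 : ι.range ≤ 𝐍[(kA k).map ι] := range_le_norm fun c u hu => kA_norm c hu
  have h2 : 𝐍[(kA k).map ι] ≤ ι.range ⊔ 𝐂[(kA k).map ι] :=
    (d.syl.mono h1 le_top).pRes_sup.ge.trans (sup_le (le_sup_right.trans' (pRes_le_iff.2
      fun g hg ho => d.centA hg (Nat.coprime_two_right.1 ho))) le_sup_left)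
  obtain ⟨_, ⟨c, rfl⟩, b, hb, rfl⟩ :=
    (mem_sup_of_le_normalizer_right (le_normalizer_centralizer h1)).1 (h2 hg)
  have e1 : Cj ι b x x := cj_self.2 (mem_centralizer_singleton_iff.2 (hb _ ⟨x, hx, rfl⟩).symm)
  exact ⟨c, ((e1.trans (Cj.of c x)).eq_iff d.inj e).1 rfl⟩

theorem fusA (hx : x ∈ kA k) (hy : y ∈ kA k) (e : Cj ι g x y) : ∃ c, c * x * c⁻¹ = y := by
  obtain ⟨P, hP, h1⟩ := exists_isSyl_ge (d.pg (kA k)) (map_le_c fun u hu => kA_comm hu hy)
  obtain ⟨c, hc, h2⟩ := hP.exists_cj_le (R := cj(g, (kA k).map ι)) (isPGroup_cj g (d.pg _))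
    (by rw [← e.cent]; exact cj_mono g (map_le_c fun u hu => kA_comm hu hx))
  obtain ⟨h, -, h3⟩ := d.syl.exists_cj_le hP.pgrp le_top
  have h4 := d.wcA fun x hx => exists_cj_of_le' ((cj_mono h h1).trans h3) hx
  have h5 := d.wcA (g := h * (c * g)) fun x hx => exists_cj_of_le'
    (by rw [cj_mul, cj_mul]; exact (cj_mono h h2).trans h3) hx
  exact d.normA ((mul_mem_cancel_left h4).1 h5) hx (e.trans (cj_self.2 hc))

theorem fus_Q1 (hx : x ∈ kA k) (hy : y ∈ kA k) (e : Cj ι g x y) (h : x ∈ Q1 k) : y ∈ Q1 k := by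
  obtain ⟨c, rfl⟩ := d.fusA hx hy e
  exact Q1_norm c h

end ZC

/-- the fusion available when all involutions are conjugate in the ambient simple group -/
structure ZS (ι : GK k →* H) : Prop extends ZC ι where
  fv : ∃ g, Cj ι g (gv k) (g0 k)
  fw : ∃ g, Cj ι g (gu k * gv k) (g0 k)

theorem not_Q2 (h : x ∈ Q1 k) (h2 : x * x = gz k) : x ∉ Q2 k := fun r => by
  rcases Q_inf h r with rfl | rfl
  · exact gz_ne (by simpa using h2.symm)
  · exact gz_ne (h2.symm.trans gz_sq)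

namespace ZS

variable (d : ZS ι)
include d

theorem sy : ZS (ι.comp (sy k)) :=
  ⟨d.toZC.sy, by simpa only [Cj, MonoidHom.comp_apply, sy_gv, sy_g0] using d.fw,
    by simpa only [Cj, MonoidHom.comp_apply, sy_guv, sy_g0] using d.fv⟩

theorem fus_w2 : ∃ g, Cj ι g (GHO.sy k (gw k)) (GHO.sy k (gi k)) := by
  obtain ⟨g, e⟩ := d.fv
  obtain ⟨n, e1, e2⟩ := d.extr (card_chi (by simp)) (fun _ => comm_g0) e
  have c : gi k * gv k = gv k * gi k := comm_gi.2 (mem_chi_e.2 rfl) |>.symm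
  obtain ⟨i, ei⟩ := e2 _ c
  have h1 := (d.sq_gz ei).1 gi_sq
  have h2 : i ∈ kA k := by
    have := mem_chi_s.1 (comm_g0.1 ((ei.comm d.inj e1).1 c))
    obtain ⟨s, t, a, b⟩ := i
    cases a <;> cases b <;> simp_all [mul_def, gz, mem_kA, m2_ne.symm]
  have e3 : Cj ι n (GHO.sy k (gw k)) (i * g0 k) := by
    simpa [gi, gv, gw, sy_mk, mul_def] using ei.mul e1
  rcases A_Q1_four h2 (d.fus_Q1 ⟨rfl, rfl⟩ h2 ei gi_mem) h1 with rfl | rfl
  · refine ⟨_, e3.trans (Cj.of' (k := gu k) ?_)⟩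
    simp only [gu, gi, g0, mul_def, inv_def, sy_mk, GK.mk.injEq]
    simp
    linear_combination -two_q4 - two_m2
  · refine ⟨_, e3.trans (Cj.of' (k := 1) ?_)⟩
    simp only [gi, g0, mul_def, inv_def, sy_mk, GK.mk.injEq, one_def]
    simp
    linear_combination -two_q4

theorem fus_w : ∃ g, Cj ι g (gw k) (gi k) := by
  simpa only [Cj, MonoidHom.comp_apply, sy_sy] using d.sy.fus_w2

theorem fus_four (h : x ∈ Q1 k) (h2 : x * x = gz k) : ∃ g, Cj ι g x (gi k) := by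
  obtain ⟨g, e⟩ := d.fus_w
  rcases Q1_four h h2 with ⟨c, r⟩ | ⟨c, r⟩
  exacts [⟨_, (Cj.of' r).symm⟩, ⟨_, (Cj.of' r).symm.trans e⟩]

theorem sc_four (h : x ∈ Q1 k) (h2 : x * x = gz k) (e : Cj ι g x y) : y ∈ Q1 k := by
  refine (sq_eq_gz ((d.sq_gz e).1 h2)).resolve_right fun r => ?_
  obtain ⟨a, ea⟩ := d.fus_four h h2
  obtain ⟨b, eb⟩ := d.sy.fus_four r (by rw [← map_mul, (d.sq_gz e).1 h2, sy_gz])
  have eb' : Cj ι b y (GHO.sy k (gi k)) := by simpa only [Cj, MonoidHom.comp_apply, sy_sy] using eb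
  have := d.fus_Q1 ⟨rfl, rfl⟩ ⟨rfl, rfl⟩ ((ea.symm.trans e).trans eb') gi_mem
  exact not_Q2 gi_mem gi_sq this

theorem e_false {r r' : GK k} (h : r * r ∈ Q1 k) (h2 : r * r * (r * r) = gz k) (e : Cj ι g r r')
    (e' : Cj ι g x y) (c : x * r = r * x) : y.e = false := by
  have c' : y * (r' * r') = r' * r' * y := (e'.comm d.inj (e.mul e)).1
    (by rw [← mul_assoc, c, mul_assoc, c, mul_assoc])
  refine mem_chi_e.1 (comm_gi.1 ?_)
  rcases A_Q1_four (sq_mem_kA r') (d.sc_four h h2 (e.mul e)) ((d.sq_gz (e.mul e)).1 h2) with t | t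
  · rwa [t] at c'
  · rw [t] at c'; exact (Commute.inv_right_iff.1 c' :)

theorem sc (h : x ∈ Q1 k) (e : Cj ι g x y) : y ∈ Q1 k := by
  by_cases h1 : x = 1
  · rw [(e.eq_iff d.inj Cj.one).1 h1]; exact one_mem _
  by_cases hz : x = gz k
  · rw [(e.eq_iff d.inj (d.cen g)).1 hz]; exact gz_mem
  by_cases h2 : x * x = gz k
  · exact d.sc_four h h2 e
  obtain ⟨c, t, a, b⟩ := x
  obtain ⟨rfl : a = b, h'⟩ := h
  cases a <;> simp only [cond_true, cond_false, add_zero] at h'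
  swap
  · refine absurd ?_ h2
    simp only [mul_def, gz, ac_tt, GK.mk.injEq]
    exact ⟨by linear_combination h', by linear_combination -h' - two_m2, rfl, rfl⟩
  subst h'
  have h3 : 2 ^ (2 + 1) * c ≠ 0 ∨ 2 ^ 2 * c = m2 k := by
    rw [or_iff_not_imp_left, not_not]
    intro r
    refine ((two_eq_zero (x := 2 ^ 2 * c)).1 (by linear_combination r)).resolve_left fun r => ?_
    rcases (two_eq_zero (x := 2 * c)).1 (by linear_combination r) with r | r
    · rcases two_eq_zero.1 r with rfl | rfl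
      exacts [h1 rfl, hz rfl]
    · exact h2 (by simp [mul_def, gz, ← two_mul, r])
  obtain ⟨n, hn⟩ : ∃ n : ℕ, 2 ^ 2 * (n * c) = m2 k :=
    h3.elim exists_mul_eq fun r => ⟨1, by simpa using r⟩
  have hQ : ∀ c, (⟨c, c, false, false⟩ : GK k) ∈ Q1 k := fun c => by simp [mem_Q1]
  have hA : ∀ c t, (⟨c, t, false, false⟩ : GK k) ∈ kA k := fun c t => ⟨rfl, rfl⟩
  have r1 := mul_mem (hQ (n * c)) (hQ (n * c))
  have r2 : (⟨n * c, n * c, false, false⟩ * ⟨n * c, n * c, false, false⟩ *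
      (⟨n * c, n * c, false, false⟩ * ⟨n * c, n * c, false, false⟩) : GK k) = gz k := by
    simp only [mul_def, gz, ac_ff, GK.mk.injEq, Bool.xor_false, and_true]
    exact ⟨by linear_combination hn, by linear_combination hn⟩
  have ye := d.e_false r1 r2 (pw_mk c c n ▸ Cj.pow' e n) e (kA_comm (hA _ _) (hA _ _))
  obtain ⟨s, t, a, b⟩ := y
  subst ye
  cases b
  · exact d.fus_Q1 (hA _ _) (hA _ _) e (hQ c)
  exfalso
  obtain ⟨c', hc⟩ : ∃ c', s + t = 2 * c' := (par _).resolve_right (by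
    rintro ⟨c', hc⟩
    have := (Cj.pow' (e.mul e) (2 ^ (k + 1))).eq_iff d.inj Cj.one
    simp only [mul_def, ac_ff, ac_ft, Bool.xor_self, pw_mk, one_def, GK.mk.injEq, and_true,
      Nat.cast_pow, Nat.cast_ofNat, show (2 : R k) ^ (k + 1) = m2 k from rfl] at this
    have h4 := this.1 ⟨by linear_combination c * two_m2, by linear_combination c * two_m2⟩
    exact m2_ne (k := k) (by rw [hc] at h4; linear_combination h4.1 - c' * two_m2))
  let w : GK k := ⟨s - c' + q4 k, t - c' + q4 k, false, true⟩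
  have w1 : w ∈ Q2 k := mem_Q2.2 ⟨rfl, by simp only [w, cond_true]; linear_combination hc + two_q4⟩
  have w2 : w * w = gz k := by
    simp only [w, mul_def, gz, ac_ft, GK.mk.injEq]
    exact ⟨by linear_combination hc + two_q4, by linear_combination hc + two_q4, rfl, rfl⟩
  obtain ⟨h, eh⟩ := d.sy.fus_four w1 (by rw [← map_mul, w2, sy_gz])
  obtain ⟨m, e1, e2⟩ := d.sy.extr (card_chi (by simp)) (fun _ => comm_gi) eh
  have e3 : ∀ u ∈ Q1 k, ∃ u', Cj ι m u u' := fun u hu => by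
    obtain ⟨u', r⟩ := e2 (GHO.sy k u) (by rw [← map_mul, ← map_mul, Q_comm hu w1])
    exact ⟨GHO.sy k u', by simpa only [Cj, MonoidHom.comp_apply, sy_sy] using r⟩
  replace e1 : Cj ι m w (GHO.sy k (gi k)) := by simpa only [Cj, MonoidHom.comp_apply, sy_sy] using e1
  obtain ⟨ρ, eρ⟩ := e3 _ (hQ (n * c))
  obtain ⟨v, ev⟩ := e3 _ (hQ (c' - q4 k))
  have v1 := d.e_false r1 r2 eρ ev (kA_comm (hA _ _) (hA _ _))
  have v2 : v ∈ kA k := by
    have := (ev.comm d.inj e1).1 (Q_comm (hQ _) w1)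
    rw [← sy_sy v, ← map_mul, ← map_mul, sy_bij.1.eq_iff, comm_gi, mem_chi_e] at this
    obtain ⟨s, t, a, b⟩ := v
    simp_all [sy_mk, mem_kA]
  have e4 : Cj ι m ⟨s, t, false, true⟩ (v * GHO.sy k (gi k)) := by
    simpa [w, mul_def] using ev.mul e1
  have h4 := d.fus_Q1 (hA _ _) (mul_mem v2 (hA _ _)) (e.trans e4) (hQ c)
  exact not_Q2 gi_mem gi_sq ((mul_mem_cancel_left (d.fus_Q1 (hA _ _) v2 ev (hQ _))).1 h4)

theorem isSC : IsStronglyClosed ((Q1 k).map ι) ι.range :=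
  ⟨map_le_range _ _, by
    rintro _ ⟨x, hx, rfl⟩ g ⟨y, e⟩
    exact ⟨y, d.sc hx e.symm, e⟩⟩

end ZS

end Cfsg.Agent.GHO
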