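import Mathlib
import Cfsg.Agent.GHO.G2Q
import Cfsg.Agent.Lyons.Tools

/-! Fusion in groups whose Sylow 2-subgroup lies between the torus `A` and the whole model. -/

set_option autoImplicit false
set_option linter.unusedSectionVars false

namespace Cfsg.Agent.GHO

open Subgroup Cfsg Cfsg.Agent.Inv Cfsg.Agent.BF Cfsg.Agent.TT GK Cfsg.Agent.PLocal.Amb
  Cfsg.Agent.Gold Cfsg.Agent.Lyons

variable {k : ℕ} {x y z v a c : GK k}

/-- membership in the four-group `V` -/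
abbrev IV (x : GK k) : Prop := InU (gz k) (g0 k) x

theorem IV.mem (h : IV x) : x ∈ kA k := (inU_iff.1 h).2.2

theorem iv_of (h : x ∈ kA k) (h2 : x * x = 1) : IV x := by
  obtain ⟨s, t, a, b⟩ := x
  obtain ⟨rfl, rfl⟩ := h
  simpa [inU_iff, mul_def, one_def, two_mul] using h2

theorem IV.sq (h : IV x) : x * x = 1 := by
  obtain ⟨s, t, a, b⟩ := x
  obtain ⟨h1, h2, rfl, rfl⟩ := inU_iff.1 h
  simpa [mul_def, one_def, ← two_mul] using ⟨h1, h2⟩

theorem IV.mul (h : IV x) (h' : IV y) : IV (x * y) := iv_of (mul_mem h.mem h'.mem) (by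
  rw [mul_assoc, ← mul_assoc y, kA_comm h'.mem h.mem, mul_assoc, h'.sq, mul_one, h.sq])

theorem iv_z : IV (gz k) := Or.inr (Or.inl rfl)
theorem iv_t : IV (g0 k) := Or.inr (Or.inr (Or.inl rfl))
theorem iv_tz : IV (g0 k * gz k) := Or.inr (Or.inr (Or.inr rfl))

theorem g0_ne : g0 k ≠ 1 := (zh (k := k)).2.2.2.2.1
theorem g0_ne_z : g0 k ≠ gz k := (zh (k := k)).2.2.2.2.2.1
theorem tz_ne : g0 k * gz k ≠ 1 := fun h => g0_ne_z (k := k) (by
  rw [← mul_one (g0 k), ← gz_sq, ← mul_assoc, h, one_mul])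
theorem tz_ne_z : g0 k * gz k ≠ gz k := fun h => g0_ne (k := k) (by simpa using h)
theorem tz_ne_t : g0 k * gz k ≠ g0 k := fun h => gz_ne (k := k) (by simpa using h)

theorem IV.comm (h : IV x) (hy : y.s = false) : y * x = x * y := by
  have := comm_g0.2 (mem_chi_s.2 hy)
  rcases h with rfl | rfl | rfl | rfl
  · simp
  · exact gz_comm y
  · exact this
  · rw [← mul_assoc, this, mul_assoc, gz_comm, mul_assoc]

theorem IV.root (h : IV x) : ∃ r ∈ kA k, r * r = x := by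
  rcases h with rfl | rfl | rfl | rfl
  · exact ⟨1, one_mem _, mul_one _⟩
  · exact ⟨gi k, ⟨rfl, rfl⟩, gi_sq⟩
  · exact ⟨⟨q4 k, 0, false, false⟩, ⟨rfl, rfl⟩, by simp [mul_def, q4_add, g0]⟩
  · exact ⟨⟨0, q4 k, false, false⟩, ⟨rfl, rfl⟩, by rw [g0z]; simp [mul_def, q4_add]⟩

theorem iv_sq (h : x * x * (x * x) = 1) : IV (x * x) := iv_of (sq_mem_kA x) h

theorem root_s (hs : y.s = true) (h : y * y = 1) : ∃ r ∈ kA k, r * y = y * r ∧ r * r = gz k := by
  obtain ⟨s, t, a, b⟩ := y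
  obtain rfl : b = true := hs
  cases a
  · exact ⟨gi k, ⟨rfl, rfl⟩, by simp [gi, mul_def, add_comm], gi_sq⟩
  · refine ⟨⟨q4 k, -q4 k, false, false⟩, ⟨rfl, rfl⟩, by simp [mul_def, add_comm], ?_⟩
    simp only [mul_def, gz, GK.mk.injEq, ac_ff]
    exact ⟨by linear_combination two_q4, by linear_combination -two_q4 - two_m2, rfl, rfl⟩

theorem conj_w (he : y.e = true) (hs : y.s = false) (ha : a ∈ kA k) : a * y * a⁻¹ = a * a * y := by
  obtain ⟨s, t, e, b⟩ := y; obtain ⟨s', t', e', b'⟩ := a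
  obtain rfl : e = true := he; obtain rfl : b = false := hs; obtain ⟨rfl, rfl⟩ := ha
  simp [mul_def, inv_def, add_comm, add_left_comm]

theorem w_conj (he : y.e = true) (hs : y.s = false) (ha : a ∈ kA k) : y * a * y⁻¹ = a⁻¹ := by
  obtain ⟨s, t, e, b⟩ := y; obtain ⟨s', t', e', b'⟩ := a
  obtain rfl : e = true := he; obtain rfl : b = false := hs; obtain ⟨rfl, rfl⟩ := ha
  simp [mul_def, inv_def]

theorem sq_w (he : y.e = true) (hs : y.s = false) : y * y = 1 := by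
  obtain ⟨s, t, e, b⟩ := y
  obtain rfl : e = true := he; obtain rfl : b = false := hs
  simp [mul_def, one_def]

theorem e_mul (x y : GK k) : (x * y).e = xor x.e y.e := rfl
theorem s_mul (x y : GK k) : (x * y).s = xor x.s y.s := rfl

theorem mem_kA_of_comm (h : a * ga k = ga k * a) : a ∈ kA k := by
  obtain ⟨s, t, e, b⟩ := a
  have h1 := two_ne_odd (k := k) 0 0
  have h2 : (2 : R k) ≠ 0 := fun r => by
    have : (2 : R k) ^ 1 = 0 := by simpa using r
    rw [Z2.two_pow_eq_zero_iff] at this; omega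
  cases e <;> cases b <;> simp [mul_def, ga, mem_kA] at h h1 ⊢
  · exact h1 h.symm
  · exact h2 (by linear_combination -h)
  · exact h1 h.symm

theorem swap_s (hs : c.s = true) : c * g0 k * c⁻¹ = g0 k * gz k := by
  obtain ⟨s, t, e, b⟩ := c
  obtain rfl : b = true := hs
  rw [g0z]
  cases e <;> simp [mul_def, inv_def, g0, neg_m2]

theorem swap_v (hs : c.s = true) (h : IV v) (h1 : v ≠ 1) (hz : v ≠ gz k) :
    c * v * c⁻¹ = v * gz k := by
  rcases h with rfl | rfl | rfl | rfl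
  · exact absurd rfl h1
  · exact absurd rfl hz
  · exact swap_s hs
  · rw [← mul_assoc, mul_assoc (c * _), ← gz_comm, ← mul_assoc, swap_s hs]

/-- the four-group `V` -/
def kV (k : ℕ) : Subgroup (GK k) where
  carrier := {x | IV x}
  mul_mem' := IV.mul
  one_mem' := Or.inl rfl
  inv_mem' := fun {x} h => by rw [Set.mem_ofPred_eq, inv_eq_of_mul_eq_one_left (IV.sq h)]; exact h

theorem mem_kV : x ∈ kV k ↔ IV x := Iff.rfl

variable {G : Type*} [Group G] [Finite G] {ι : GK k →* G} {g n ρ : G} {U : Subgroup (GK k)}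
  {H M : Subgroup G}

theorem iv_img (i : Function.Injective ι) (h : ∀ x ∈ kA k, ∃ y, Cj ι n x y) (hv : IV v) :
    ∃ v', IV v' ∧ Cj ι n v v' := by
  obtain ⟨r, hr, rfl⟩ := hv.root
  obtain ⟨r', e⟩ := h r hr
  exact ⟨_, iv_sq (((e.mul e).sq i).1 hv.sq), e.mul e⟩

theorem normA (i : Function.Injective ι) (h : ∀ x ∈ kA k, ∃ y, Cj ι n x y) :
    n ∈ 𝐍[(kA k).map ι] := by
  refine mem_normalizer_of_cj_le (cj_map_le fun x hx => ?_)
  obtain ⟨y, e⟩ := h x hx
  refine ⟨y, ?_, e⟩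
  have hs : y.s = false := by
    by_contra r
    have key : ∀ {v v'}, IV v → v ≠ 1 → IV v' → Cj ι n v v' → v' = gz k := fun {v v'} a b c d => by
      by_contra s
      have := swap_v (Bool.of_not_eq_false r) c (d.ne_one i b) s
      rw [(e.comm i d).1 (kA_comm hx a.mem), mul_inv_cancel_right] at this
      exact gz_ne (k := k) (by simpa using this)
    obtain ⟨z', a1, a2⟩ := iv_img i h iv_z
    obtain ⟨t', b1, b2⟩ := iv_img i h iv_t
    exact g0_ne_z ((b2.eq_iff i a2).2 ((key iv_t g0_ne b1 b2).trans (key iv_z gz_ne a1 a2).symm))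
  refine ⟨by_contra fun r => ?_, hs⟩
  obtain ⟨v', a1, a2⟩ := iv_img i h (iv_of hx ((e.sq i).2 (sq_w (Bool.of_not_eq_false r) hs)))
  exact r (((e.eq_iff i a2).1 rfl) ▸ a1.mem.1)

theorem normV (i : Function.Injective ι) : 𝐍[(kA k).map ι] ≤ 𝐍[(kV k).map ι] := fun n hn =>
  mem_normalizer_of_cj_le (cj_map_le fun _ hx =>
    iv_img i (fun _ hx => (exists_cj_of_norm hn hx).imp fun _ => And.right) hx)

theorem mem_cV : g ∈ 𝐂[(kV k).map ι] ↔ Cj ι g (gz k) (gz k) ∧ Cj ι g (g0 k) (g0 k) := by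
  refine ⟨fun h => ⟨?_, ?_⟩, fun h => ?_⟩
  · exact cj_self.2 (mem_centralizer_singleton_iff.2 (h _ ⟨_, iv_z, rfl⟩).symm)
  · exact cj_self.2 (mem_centralizer_singleton_iff.2 (h _ ⟨_, iv_t, rfl⟩).symm)
  rintro _ ⟨x, hx, rfl⟩
  refine (mem_centralizer_singleton_iff.1 (cj_self.1 ?_)).symm
  rcases hx with rfl | rfl | rfl | rfl
  exacts [Cj.one, h.1, h.2, h.2.mul h.1]

/-- an element of order three on `V` -/
structure Rho (ι : GK k →* G) (ρ : G) : Prop where
  nA : ρ ∈ 𝐍[(kA k).map ι]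
  ez : Cj ι ρ (gz k) (g0 k)
  et : Cj ι ρ (g0 k) (g0 k * gz k)

theorem Rho.etz (h : Rho ι ρ) : Cj ι ρ (g0 k * gz k) (gz k) := by
  have := h.et.mul h.ez
  rwa [mul_assoc, ← gz_comm, ← mul_assoc, iv_t.sq, one_mul] at this

theorem Rho.fix (i : Function.Injective ι) (h : Rho ι ρ) (ha : a ∈ kA k) (e : Cj ι ρ a a) :
    a = 1 := by
  obtain ⟨m, hm⟩ := isPGroup a
  induction m generalizing a with
  | zero => simpa using hm
  | succ m ih =>
    rcases iv_of ha (ih (mul_mem ha ha) (e.mul e) (by rw [← sq, ← pow_mul, ← pow_succ', hm])) with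
      r | rfl | rfl | rfl
    · exact r
    · exact absurd ((h.ez.eq_iff i e).1 rfl) g0_ne_z
    · exact absurd ((h.et.eq_iff i e).1 rfl) tz_ne_t
    · exact absurd ((e.eq_iff i h.etz).1 rfl) tz_ne_z

theorem Rho.le (i : Function.Injective ι) (h : Rho ι ρ)
    (hM : ∀ x ∈ kA k, (ι x)⁻¹ * (ρ * ι x * ρ⁻¹) ∈ M) : (kA k).map ι ≤ M := by
  choose! φ h1 h2 using fun x (hx : x ∈ kA k) => exists_cj_of_norm h.nA hx
  let f : kA k → kA k := fun x => ⟨x⁻¹ * φ x, mul_mem (inv_mem x.2) (h1 x x.2)⟩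
  have hf : Function.Injective f := fun x y e => by
    have e1 : (x : GK k)⁻¹ * φ x = (y : GK k)⁻¹ * φ y := congrArg Subtype.val e
    have e2 := (h2 x x.2).mul (h2 y y.2).inv
    have e3 : φ x * (φ y)⁻¹ = x * (y : GK k)⁻¹ := by
      rw [mul_inv_eq_iff_eq_mul, mul_assoc, ← e1, mul_inv_cancel_left]
    exact Subtype.ext (mul_inv_eq_one.1 (h.fix i (mul_mem x.2 (inv_mem y.2)) (e3 ▸ e2)))
  rintro _ ⟨a, ha, rfl⟩
  obtain ⟨x, hx⟩ := Finite.surjective_of_injective hf ⟨a, ha⟩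
  rw [← show (x : GK k)⁻¹ * φ x = a from congrArg Subtype.val hx, map_mul, map_inv, ← h2 x x.2]
  exact hM x x.2

theorem Rho.conj (h : Rho ι ρ) (hH : ρ ∈ H) (hv : IV v) (h1 : v ≠ 1) :
    ∃ n ∈ H, n ∈ 𝐍[(kA k).map ι] ∧ Cj ι n v (gz k) := by
  rcases hv with rfl | rfl | rfl | rfl
  · exact absurd rfl h1
  · exact ⟨1, one_mem _, one_mem _, Cj.refl _⟩
  · exact ⟨_, inv_mem hH, inv_mem h.nA, h.ez.symm⟩
  · exact ⟨_, hH, h.nA, h.etz⟩

/-- the image of `U` is a Sylow 2-subgroup of `H` -/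
structure SU (ι : GK k →* G) (U : Subgroup (GK k)) (H : Subgroup G) : Prop where
  inj : Function.Injective ι
  le : kA k ≤ U
  syl : IsSyl 2 (U.map ι) H

namespace SU

variable (d : SU ι U H)
include d

theorem mem (hx : x ∈ U) : ι x ∈ H := d.syl.le ⟨x, hx, rfl⟩

theorem extr (hz : ∀ a ∈ U, a * z = z * a) (hg : g ∈ H) (e : Cj ι g y z) :
    ∃ n ∈ H, Cj ι n y z ∧ ∀ x ∈ U, x * y = y * x → ∃ x' ∈ U, Cj ι n x x' := by
  have h1 : cj(g, (U ⊓ 𝐜[y]).map ι) ≤ H ⊓ 𝐜[ι z] :=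
    le_inf (cj_le_of_mem ((map_mono inf_le_left).trans d.syl.le) hg) (by
      rw [← e.cent]; exact cj_mono g (map_le_c fun r hr => mem_centralizer_singleton_iff.1 hr.2))
  obtain ⟨c, hc, k1⟩ := (d.syl.mono (le_inf d.syl.le (map_le_c hz)) inf_le_left).exists_cj_le
    (isPGroup_cj g (d.syl.pgrp.to_le (map_mono inf_le_left))) h1
  rw [← cj_mul] at k1
  exact ⟨c * g, mul_mem hc.1 hg, e.trans (cj_self.2 hc.2), fun x hx h =>
    exists_cj_of_le k1 ⟨hx, mem_centralizer_singleton_iff.2 h⟩⟩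

theorem fuse (hg : g ∈ H) (e : Cj ι g y (gz k)) (hy : y ≠ gz k) :
    ∃ n ∈ H, ∃ v, IV v ∧ v ≠ gz k ∧ Cj ι n v (gz k) := by
  have i := d.inj
  by_contra! hn
  have key : ∀ {g y}, g ∈ H → Cj ι g y (gz k) → y ≠ gz k → y.e = true ∧ y.s = false :=
    fun {g y} hg e hy => by
      have y2 := (e.sq i).2 gz_sq
      have hs : y.s = false := by
        by_contra r
        obtain ⟨r, h1, h2, h3⟩ := root_s (Bool.of_not_eq_false r) y2
        obtain ⟨n, hn', e1, e2⟩ := d.extr (fun a _ => gz_comm a) hg e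
        obtain ⟨r', -, e3⟩ := e2 r (d.le h1) h2
        have e4 : Cj ι n (gz k) (r' * r') := h3 ▸ e3.mul e3
        exact hn _ (inv_mem hn') _ (iv_sq ((e4.sq i).1 gz_sq))
          (fun r => hy ((e1.eq_iff i e4).2 r.symm)) e4.symm
      exact ⟨by_contra fun r => hn g hg y (iv_of ⟨Bool.of_not_eq_true r, hs⟩ y2) hy e, hs⟩
  obtain ⟨h1, h2⟩ := key hg e hy
  obtain ⟨n, hn', e1, e2⟩ := d.extr (fun a _ => gz_comm a) hg e
  have k2 : ∀ {v v'}, IV v → v ≠ 1 → Cj ι n v v' → v'.e = true := fun {v v'} a b c => by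
    obtain ⟨r, hr, rfl⟩ := a.root
    have e3 := (Cj.of' (ι := ι) (conj_w h1 h2 hr)).symm.trans e1
    have := (key (mul_mem (mul_mem hn' (inv_mem (d.mem (d.le hr)))) (inv_mem hn'))
      ((c.mul e1).symm.trans e3) (by simpa using c.ne_one i b)).1
    simpa [e_mul, gz] using this
  obtain ⟨z', -, ez⟩ := e2 _ (d.le iv_z.mem) (iv_z.comm h2).symm
  obtain ⟨t', -, et⟩ := e2 _ (d.le iv_t.mem) (iv_t.comm h2).symm
  have := k2 iv_tz tz_ne (et.mul ez)
  rw [e_mul, k2 iv_z gz_ne ez, k2 iv_t g0_ne et] at this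
  exact absurd this (by decide)

theorem le_norm : U.map ι ≤ 𝐍[(kA k).map ι] :=
  (map_le_range ι U).trans (range_le_norm fun c _ hu => kA_norm c hu)

theorem rho (hg : g ∈ H) (e : Cj ι g y (gz k)) (hy : y ≠ gz k) : ∃ ρ ∈ H, Rho ι ρ := by
  have i := d.inj
  obtain ⟨n₀, hn₀, v, hv, hz, e₀⟩ := d.fuse hg e hy
  have v1 := e₀.symm.ne_one i gz_ne
  have fin : ∀ n ∈ H, n ∈ 𝐍[(kA k).map ι] → Cj ι n v (gz k) → Cj ι n (gz k) (v * gz k) →
      ∃ ρ ∈ H, Rho ι ρ := fun n hn hA e1 e2 => by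
    rcases hv with rfl | rfl | rfl | rfl
    · exact absurd rfl v1
    · exact absurd rfl hz
    · have := e1.mul e2
      rw [← mul_assoc, ← gz_comm, mul_assoc, gz_sq, mul_one] at this
      exact ⟨_, inv_mem hn, inv_mem hA, e1.symm, this.symm⟩
    · rw [mul_assoc, gz_sq, mul_one] at e2
      have := e1.mul e2
      rw [mul_assoc, gz_sq, mul_one, ← gz_comm] at this
      exact ⟨_, hn, hA, e2, this⟩
  obtain ⟨n, hn, e1, e2⟩ := d.extr (fun a _ => gz_comm a) hn₀ e₀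
  have h0 : ∀ x ∈ kA k, ∃ y, Cj ι n x y := fun x hx =>
    (e2 x (d.le hx) (kA_comm hx hv.mem)).imp fun _ => And.right
  have hA := normA i h0
  obtain ⟨a, ha, e3⟩ := iv_img i h0 iv_z
  have a1 := e3.ne_one i gz_ne
  have az : a ≠ gz k := fun r => hz ((e1.eq_iff i e3).2 r.symm)
  obtain rfl | rfl : a = v * gz k ∨ a = v := by
    rcases hv with rfl | rfl | rfl | rfl <;> rcases ha with rfl | rfl | rfl | rfl <;>
      simp_all [mul_assoc, gz_sq]
  · exact fin n hn hA e1 e3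
  by_cases hs : ∃ c ∈ U, c.s = true
  · obtain ⟨c, hc, hs⟩ := hs
    exact fin _ (mul_mem (d.mem hc) hn) (mul_mem (d.le_norm ⟨c, hc, rfl⟩) hA)
      (e1.trans (Cj.of' (by rw [gz_comm, mul_inv_cancel_right]))) (e3.trans (Cj.of' (swap_v hs ha a1 az)))
  push Not at hs
  have h1 : n ∈ 𝐂[(kV k).map ι] := by
    refine mem_of_pow_mem (d.syl.mono (le_inf d.syl.le d.le_norm) inf_le_left) ?_
      (inf_le_right.trans ((normV i).trans (normalizer_le_normalizer_centralizer _))) ⟨hn, hA⟩ (k := 1) ?_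
    · rintro _ ⟨x, hx, rfl⟩ _ ⟨y, hy, rfl⟩
      rw [← map_mul, ← map_mul, IV.comm hy (Bool.of_not_eq_true (hs x hx))]
    · have f1 := e3.trans e1
      have f2 := e1.trans e3
      rw [pow_one, sq, mem_cV]
      rcases ha with rfl | rfl | rfl | rfl
      · exact absurd rfl a1
      · exact absurd rfl az
      · exact ⟨f1, f2⟩
      · exact ⟨f1, by simpa [mul_assoc, gz_sq] using f2.mul f1⟩
  exact absurd (((mem_cV.1 h1).1.eq_iff i e3).1 rfl).symm az

/-- if `U` centralises `V`, the involutions outside `A` are not fused into `A` -/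
theorem not_w (hU : ∀ c ∈ U, c.s = false) (hg : g ∈ H) (he : x.e = true) (hs : x.s = false)
    (hy : y ∈ kA k) : ¬ Cj ι g x y := fun e => by
  have i := d.inj
  have hv := iv_of hy ((e.sq i).1 (sq_w he hs))
  obtain ⟨n, hn, e1, e2⟩ := d.extr (fun a ha => hv.comm (hU a ha)) hg e
  obtain ⟨z', hz', ez⟩ := e2 _ (d.le iv_z.mem) (iv_z.comm hs).symm
  obtain ⟨t', ht', et⟩ := e2 _ (d.le iv_t.mem) (iv_t.comm hs).symm
  obtain ⟨v, v', h1, h2, h3, h4⟩ : ∃ v v', IV v ∧ v ≠ 1 ∧ Cj ι n v v' ∧ v' ∈ kA k := by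
    by_cases a : z'.e = false
    · exact ⟨_, _, iv_z, gz_ne, ez, a, hU _ hz'⟩
    by_cases b : t'.e = false
    · exact ⟨_, _, iv_t, g0_ne, et, b, hU _ ht'⟩
    exact ⟨_, _, iv_tz, tz_ne, et.mul ez, by simp_all [e_mul], hU _ (mul_mem ht' hz')⟩
  have h5 := iv_of h4 ((h3.sq i).1 h1.sq)
  obtain ⟨r, hr, rfl⟩ := h1.root
  have hV : U.map ι ≤ 𝐂[(kV k).map ι] := by
    rintro _ ⟨x, hx, rfl⟩ _ ⟨y, hy, rfl⟩
    rw [← map_mul, ← map_mul, IV.comm hy (hU x hx)]
  have h6 : n * ι r * n⁻¹ ∈ 𝐂[(kV k).map ι] := by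
    refine mem_of_pow_mem (d.syl.mono (le_inf d.syl.le (hV.trans (centralizer_le_normalizer' _)))
      inf_le_left) hV (inf_le_right.trans (normalizer_le_normalizer_centralizer _))
      ⟨H.mul_mem (H.mul_mem hn (d.mem (d.le hr))) (H.inv_mem hn), ?_⟩ (k := 1) ?_
    · have f1 : Cj ι (n * ι r * n⁻¹) v' v' := by
        have := (h3.symm.trans (Cj.of' (ι := ι) (k := r) (by group))).trans h3
        rwa [← mul_assoc] at this
      have f2 : Cj ι (n * ι r * n⁻¹) y (v' * y) := by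
        have := (e1.symm.trans (Cj.of' (ι := ι) (conj_w he hs hr))).trans (h3.mul e1)
        rwa [← mul_assoc] at this
      have yv : y ≠ v' := fun s => by
        have := (e1.eq_iff i h3).2 s
        rw [this, e_mul] at he
        simp at he
      have y1 := e1.ne_one i (x := x) (by rintro rfl; exact absurd he (by simp [one_def]))
      have v1 := h3.ne_one i h2
      refine mem_normalizer_of_cj_le (cj_map_le fun w hw => ?_)
      obtain rfl | rfl | rfl | rfl : w = 1 ∨ w = y ∨ w = v' ∨ w = v' * y := by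
        have z2 := gz_sq (k := k)
        have t2 := iv_t.sq (k := k)
        have c1 := gz_comm (g0 k)
        rcases hw with rfl | rfl | rfl | rfl <;> rcases hv with rfl | rfl | rfl | rfl <;>
          rcases h5 with rfl | rfl | rfl | rfl <;>
          first | exact absurd rfl y1 | exact absurd rfl v1 | exact absurd rfl yv | (simp [mul_assoc, z2, ← c1, ← mul_assoc (g0 k) (g0 k), t2]; done) | simp [← mul_assoc, ← c1, mul_assoc (g0 k) (gz k), z2]
      exacts [⟨_, one_mem _, Cj.one⟩, ⟨_, h5.mul hv, f2⟩, ⟨_, h5, f1⟩, ⟨_, h5.mul (h5.mul hv), f1.mul f2⟩]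
    · rw [pow_one, sq, conj_mul, ← map_mul, h3]
      rintro _ ⟨y, hy, rfl⟩
      rw [← map_mul, ← map_mul, kA_comm (IV.mem hy) h4]
  have h7 : ι x * ι r = ι r * ι x := by
    have := h6 _ ⟨y, hv, rfl⟩
    rw [← e1, conj_mul, conj_mul] at this
    simpa using this
  rw [← map_mul, ← map_mul] at h7
  have := conj_w he hs hr
  rw [← i h7, mul_inv_cancel_right] at this
  exact h2 (by simpa using this.symm)

end SU

end Cfsg.Agent.GHO
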